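import Cfsg.Agent.OD.Pre
import Cfsg.Agent.H6.Top2
import Cfsg.Agent.H6.SuzA.D0
set_option autoImplicit false
set_option maxRecDepth 100000
set_option Elab.async false
set_option linter.all false
namespace CfH6.SuzA
open CfH6 MulAction
noncomputable def n0_0 : Net := mkNet (nat_lit 2048) [(nat_lit 1024, k0), (nat_lit 512, k1), (nat_lit 256, k2), (nat_lit 128, k3), (nat_lit 64, k4), (nat_lit 32, k5), (nat_lit 16, k6), (nat_lit 8, k7), (nat_lit 4, k8), (nat_lit 2, k9)] [(k10, nat_lit 1)]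
noncomputable def n0_1 : Net := mkNet (nat_lit 2048) [(nat_lit 1024, k11), (nat_lit 512, k12), (nat_lit 256, k13), (nat_lit 128, k14), (nat_lit 64, k15), (nat_lit 32, k16), (nat_lit 16, k17), (nat_lit 8, k18), (nat_lit 4, k19), (nat_lit 2, k20)] [(k21, nat_lit 1)]
noncomputable def n0_2 : Net := mkNet (nat_lit 2048) [(nat_lit 1024, k22), (nat_lit 512, k23), (nat_lit 256, k24), (nat_lit 128, k25), (nat_lit 64, k26), (nat_lit 32, k27), (nat_lit 16, k28), (nat_lit 8, k29), (nat_lit 4, k30), (nat_lit 2, k31)] [(k32, nat_lit 1)]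
noncomputable def n0_3 : Net := mkNet (nat_lit 2048) [(nat_lit 1024, k33), (nat_lit 512, k34), (nat_lit 256, k35), (nat_lit 128, k36), (nat_lit 64, k37), (nat_lit 32, k38), (nat_lit 16, k39), (nat_lit 8, k40), (nat_lit 4, k41), (nat_lit 2, k42)] [(k43, nat_lit 1)]
noncomputable def n0_4 : Net := mkNet (nat_lit 2048) [(nat_lit 1024, k44), (nat_lit 512, k45), (nat_lit 256, k46), (nat_lit 128, k47), (nat_lit 64, k48), (nat_lit 32, k49), (nat_lit 16, k50), (nat_lit 8, k51), (nat_lit 4, k52), (nat_lit 2, k53)] [(k54, nat_lit 1)]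
noncomputable def n0_5 : Net := mkNet (nat_lit 2048) [(nat_lit 1024, k55), (nat_lit 512, k56), (nat_lit 256, k57), (nat_lit 128, k58), (nat_lit 64, k59), (nat_lit 32, k60), (nat_lit 16, k61), (nat_lit 8, k62), (nat_lit 4, k63), (nat_lit 2, k64)] [(k65, nat_lit 1)]
noncomputable def n0_6 : Net := mkNet (nat_lit 2048) [(nat_lit 1024, k66), (nat_lit 512, k67), (nat_lit 256, k68), (nat_lit 128, k69), (nat_lit 64, k70), (nat_lit 32, k71), (nat_lit 16, k72), (nat_lit 8, k73), (nat_lit 4, k74), (nat_lit 2, k75)] [(k76, nat_lit 1)]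
noncomputable def n2_0 : Net := mkNet (nat_lit 128) [(nat_lit 64, k77), (nat_lit 32, k78), (nat_lit 16, k79), (nat_lit 8, k80), (nat_lit 4, k81), (nat_lit 2, k82)] [(k83, nat_lit 1)]
noncomputable def n2_1 : Net := mkNet (nat_lit 128) [(nat_lit 64, k84), (nat_lit 32, k85), (nat_lit 16, k86), (nat_lit 8, k87), (nat_lit 4, k88), (nat_lit 2, k89)] [(k90, nat_lit 1)]
noncomputable def n3_0 : Net := mkNet (nat_lit 40) [(nat_lit 20, (nat_lit 0x928c899818)), (nat_lit 10, (nat_lit 0xa7ec868008)), (nat_lit 5, (nat_lit 0x9800270a10))] [((nat_lit 0x142528400), nat_lit 1), ((nat_lit 0x5090202140), nat_lit 1), ((nat_lit 0x28405010a0), nat_lit 1), ((nat_lit 0x5000000940), nat_lit 1), ((nat_lit 0x480), nat_lit 1)]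
noncomputable def n3_1 : Net := mkNet (nat_lit 40) [(nat_lit 20, (nat_lit 0xc2884c4414)), (nat_lit 10, (nat_lit 0x6c98a3e000)), (nat_lit 5, (nat_lit 0x601707bb1c))] [((nat_lit 0x280a421084), nat_lit 1), ((nat_lit 0x5294a12140), nat_lit 1), ((nat_lit 0x90a529080), nat_lit 1), ((nat_lit 0x94a10000), nat_lit 1), ((nat_lit 0x8500000), nat_lit 1)]
noncomputable def n4_0 : Net := mkNet (nat_lit 10) [(nat_lit 5, (nat_lit 0x210))] [((nat_lit 0x140), nat_lit 1), ((nat_lit 0x80), nat_lit 1), ((nat_lit 0x40), nat_lit 1)]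
noncomputable def n4_1 : Net := mkNet (nat_lit 10) [(nat_lit 5, (nat_lit 0x210))] [((nat_lit 0xa0), nat_lit 1), ((nat_lit 0x140), nat_lit 1), ((nat_lit 0x80), nat_lit 1), ((nat_lit 0x40), nat_lit 1)]
noncomputable def n5_0 : Net := mkNet (nat_lit 10) [(nat_lit 5, (nat_lit 0))] [((nat_lit 0xa0), nat_lit 1), ((nat_lit 0x40), nat_lit 1), ((nat_lit 0x20), nat_lit 1)]
noncomputable def n5_1 : Net := mkNet (nat_lit 10) [(nat_lit 5, (nat_lit 0))] [((nat_lit 0xa0), nat_lit 1)]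
noncomputable def n6_0 : Net := mkNet (nat_lit 10) [(nat_lit 5, (nat_lit 0))] [((nat_lit 0x80), nat_lit 1), ((nat_lit 0x40), nat_lit 1)]
noncomputable def nets0 : List Net := [n0_0, n0_1, n0_2, n0_3, n0_4, n0_5, n0_6]
noncomputable def nets1 : List Net := [n0_0, n0_1, n0_2, n0_3, n0_4, n0_5]
def ws1 : List (List ℕ) := [[0],
  [1],
  [2],
  [3],
  [4],
  [5]]
noncomputable def nets2 : List Net := [n2_0, n2_1]
def ws2 : List (List ℕ) := [[1, 2, 3, 5, 1, 2, 5, 3, 4, 3, 5, 4, 2, 4, 1, 5, 3, 5, 4, 3, 1, 5, 3, 1, 2, 1, 5, 1, 0, 4, 2, 0],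
  [1, 0, 1, 4, 0, 5, 3, 4, 3, 1, 2, 0]]
noncomputable def nets3 : List Net := [n3_0, n3_1]
def ws3 : List (List ℕ) := [[0, 1, 0, 1, 0, 1, 1, 0, 1, 0, 1],
  [0, 1, 0, 1, 1, 1, 1, 0, 1]]
noncomputable def nets4 : List Net := [n4_0, n4_1]
def ws4 : List (List ℕ) := [[0, 1, 1, 0, 1, 0],
  [1, 0, 1]]
noncomputable def nets5 : List Net := [n5_0, n5_1]
def ws5 : List (List ℕ) := [[0, 1, 1, 0],
  [1, 0, 0]]
noncomputable def nets6 : List Net := [n6_0]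
def ws6 : List (List ℕ) := [[0, 1, 0]]
def sig : List (List ℕ) := [[0],
  [1],
  [2],
  [3],
  [4],
  [5],
  [6]]
def eqs0 : List (List ℕ × List ℕ) := [([0, 0], []),
  ([1, 1], []),
  ([2, 2], []),
  ([3, 3], []),
  ([4, 4], []),
  ([5, 5], []),
  ([6, 6], []),
  ([0, 1, 0, 1, 0], [1, 0, 1, 0, 1]),
  ([0, 2], [2, 0]),
  ([0, 3], [3, 0]),
  ([0, 4], [4, 0]),
  ([0, 5], [5, 0]),
  ([0, 6], [6, 0]),
  ([1, 2, 1], [2, 1, 2]),
  ([1, 3], [3, 1]),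
  ([1, 4], [4, 1]),
  ([1, 5, 1], [5, 1, 5]),
  ([1, 6, 1], [6, 1, 6]),
  ([2, 3, 2, 3, 2, 3, 2, 3], [3, 2, 3, 2, 3, 2, 3, 2]),
  ([2, 4], [4, 2]),
  ([2, 5], [5, 2]),
  ([2, 6], [6, 2]),
  ([3, 4, 3], [4, 3, 4]),
  ([3, 5], [5, 3]),
  ([3, 6], [6, 3]),
  ([4, 5], [5, 4]),
  ([4, 6], [6, 4]),
  ([5, 6, 5, 6], [6, 5, 6, 5]),
  ([0, 3, 2, 3, 2], [2, 3, 2, 3]),
  ([0, 6, 5], [5, 6]),
  ([0, 1, 2, 5, 0, 1, 2, 5, 0, 1], [5, 2, 1, 0, 5, 2, 1, 0, 5, 2]),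
  ([1, 5, 6, 1, 5, 6, 1, 5], [6, 5, 1, 6, 5, 1, 6]),
  ([1, 2, 3, 2, 3, 1, 2, 3, 2, 3, 1, 2, 3, 2, 3, 1, 2, 3, 2, 3, 1, 2, 3, 2, 3, 4, 1, 2, 3, 2, 3, 1, 2, 3, 2, 3, 1, 2, 3], [4, 3, 2, 3, 2, 1, 3, 2, 3, 2, 1, 3, 2, 3, 2, 1, 3, 2, 3, 2, 1, 3, 2, 3, 2, 1, 4, 3, 2, 3, 2, 1, 3, 2, 3, 2, 1, 3, 2])]
def eqs : List (List ℕ × List ℕ) := eqs0
def lU : List (ℕ × ℕ) := [(0, 9), (10, 26), (40, 63), (128, 1684)]
noncomputable def U : ℕ := ivls lU
def l1 : List (ℕ × ℕ) := [(1, 1), (128, 1364)]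
noncomputable def S1 : ℕ := ivls l1
def w1 : List ℕ := [6]
def l2 : List (ℕ × ℕ) := [(2, 7), (10, 26), (40, 63), (1492, 320)]
noncomputable def S2 : ℕ := ivls l2
def w2 : List ℕ := [6, 1, 2, 3, 2, 1, 6]
noncomputable def J : List (List ℕ × ℕ × ℕ) := [(w1, 1, S1), (w2, 1492, S2)]
def lBig : List (ℕ × ℕ) := [(1, 1), (128, 1364)]
noncomputable def J2 : List (List ℕ × ℕ × ℕ) := [([2, 6, 0, 4, 0], 1, S1)]
noncomputable def J1 : List (List ℕ × ℕ × ℕ) := [([0], 1, S1)]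
def ex : List (List ℕ) := [[1, 2, 3, 6, 4, 5]]
def bs' : List ℕ := [0, 1, 2, 3, 4, 5, 6]
end CfH6.SuzA
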